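import Mathlib
import Groth.Agent.DVRDom.Basic
import Groth.Agent.KrullAkizuki.Basic

/-!
# Semilocal one-dimensional subrings of a field: separation and conductor lemmas
-/

set_option autoImplicit false

universe u

namespace Groth.Agent.SemiLocalGlue

variable {K : Type u} [Field K]

theorem krullDimLE_one {B : Type u} [CommRing B] (h : ringKrullDim B = 1) : Ring.KrullDimLE 1 B :=
  (Order.krullDimLE_iff _ _).2 (by show ringKrullDim B ≤ _; rw [h]; rfl)

theorem isMaximal_of_ne_bot {B : Type u} [CommRing B] [IsDomain B] [Ring.KrullDimLE 1 B]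
    {p : Ideal B} (hp : p.IsPrime) (h0 : p ≠ ⊥) : p.IsMaximal := by
  rcases Ring.krullDimLE_one_iff.1 ‹Ring.KrullDimLE 1 B› p hp with h | h
  · rw [IsDomain.minimalPrimes_eq_singleton_bot] at h
    exact absurd h h0
  · exact h

theorem not_isField_of_dim {B : Type u} [CommRing B] (h : ringKrullDim B = 1) : ¬ IsField B := by
  intro hf
  let _ := hf.toField
  rw [ringKrullDim_eq_zero_of_field] at h
  exact zero_ne_one h

/-- A subring with fraction field `K` that is a field is everything. -/
theorem eq_top_of_isField (B : Subring K) [IsFractionRing B K] (h : IsField B) : B = ⊤ := by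
  refine eq_top_iff.2 fun z _ => ?_
  obtain ⟨b, c, hc, rfl⟩ := IsFractionRing.div_surjective B z
  obtain ⟨c', hc'⟩ := h.mul_inv_cancel (nonZeroDivisors.ne_zero hc)
  have h1 : (c : K)⁻¹ = c' := inv_eq_of_mul_eq_one_right (congrArg Subtype.val hc')
  show (b : K) / (c : K) ∈ B
  rw [div_eq_mul_inv, h1]
  exact B.mul_mem b.2 c'.2

/-- A nonfield subring lies in a valuation subring different from `K`, with prescribed centre. -/
theorem exists_valuationSubring (B : Subring K) (I : Ideal B) (hI : I ≠ ⊤) (h0 : I ≠ ⊥) :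
    ∃ V : ValuationSubring K, B ≤ V.toSubring ∧ V ≠ ⊤ ∧ ∀ b ∈ I, (b : K) ∈ V.nonunits := by
  obtain ⟨V, hV, hIV⟩ := Ideal.image_subset_nonunits_valuationSubring I hI
  refine ⟨V, hV, fun htop => ?_, fun b hb => hIV ⟨b, hb, rfl⟩⟩
  obtain ⟨b, hb, hb0⟩ := Submodule.exists_mem_ne_zero_of_ne_bot h0
  have hbn : (b : K) ∈ V.nonunits := hIV ⟨b, hb, rfl⟩
  have hbne : (b : K) ≠ 0 := fun h => hb0 (Subtype.ext h)
  have hinv : (b : K)⁻¹ ∈ V := by rw [htop]; exact ValuationSubring.mem_top _
  rw [ValuationSubring.mem_nonunits_iff] at hbn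
  have h2 := (V.valuation_le_one_iff _).2 hinv
  rw [map_inv₀] at h2
  exact absurd h2 (not_le.2 ((one_lt_inv₀ (zero_lt_iff.2 ((Valuation.ne_zero_iff _).2 hbne))).2 hbn))

theorem inv_mem_nonunits_of_notMem (V : ValuationSubring K) {z : K} (hz : z ∉ V) :
    z⁻¹ ∈ V.nonunits := by
  have hz0 : z ≠ 0 := fun h => hz (h ▸ V.zero_mem)
  rw [ValuationSubring.mem_nonunits_iff, map_inv₀]
  rw [← V.valuation_le_one_iff, not_le] at hz
  exact (inv_lt_one₀ (zero_lt_iff.2 ((Valuation.ne_zero_iff _).2 hz0))).2 hz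

section OneDim

variable (B : Subring K) [IsNoetherianRing B] [IsFractionRing B K] [Ring.KrullDimLE 1 B]

/-- Elements of `K` are fractions over the integral closure with denominator prime to a maximal ideal. -/
theorem exists_fraction (P : Ideal (integralClosure B K)) [P.IsMaximal] (hP : P ≠ ⊥) (z : K) :
    ∃ b s : integralClosure B K, s ∉ P ∧ (z * s = b ∨ z⁻¹ * s = b) := by
  let B' := integralClosure B K
  have := KrullAkizuki.isDedekindDomain_integralClosure B K
  have : IsFractionRing B' K := integralClosure.isFractionRing_of_finite_extension K K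
  let W := Localization.subalgebra.ofField K P.primeCompl P.primeCompl_le_nonZeroDivisors
  have : IsLocalization.AtPrime W P :=
    Localization.subalgebra.isLocalization_ofField K P.primeCompl P.primeCompl_le_nonZeroDivisors
  have : IsDiscreteValuationRing W :=
    IsLocalization.AtPrime.isDiscreteValuationRing_of_dedekind_domain _ hP W
  have : IsFractionRing W K :=
    Localization.subalgebra.isFractionRing_ofField K P.primeCompl P.primeCompl_le_nonZeroDivisors
  have key : ∀ y : K, IsLocalization.IsInteger W y → ∃ b s : B', s ∉ P ∧ y * s = b := by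
    rintro y ⟨w, rfl⟩
    obtain ⟨⟨b, s⟩, hbs⟩ := IsLocalization.surj P.primeCompl w
    exact ⟨b, s.1, s.2, congrArg Subtype.val hbs⟩
  rcases (ValuationRing.iff_isInteger_or_isInteger W K).1 inferInstance z with h | h
  · obtain ⟨b, s, hs, e⟩ := key z h
    exact ⟨b, s, hs, Or.inl e⟩
  · obtain ⟨b, s, hs, e⟩ := key z⁻¹ h
    exact ⟨b, s, hs, Or.inr e⟩

/-- The centre of a valuation subring on the integral closure. -/
theorem exists_centre (V : ValuationSubring K) (hBV : B ≤ V.toSubring) (hV : V ≠ ⊤) :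
    ∃ P : MaximalSpectrum (integralClosure B K), P.asIdeal ≠ ⊥ ∧
      (∀ b : integralClosure B K, b ∈ P.asIdeal ↔ (b : K) ∈ V.nonunits) ∧
      ∀ z : K, z ∈ V ↔ ∃ b s : integralClosure B K, s ∉ P.asIdeal ∧ z * s = b := by
  let B' := integralClosure B K
  have := KrullAkizuki.isDedekindDomain_integralClosure B K
  have : IsFractionRing B' K := integralClosure.isFractionRing_of_finite_extension K K
  have hB'V : ∀ b : B', (b : K) ∈ V := fun b => by
    have hb : IsIntegral V (b : K) := by
      obtain ⟨p, hp, hpb⟩ := b.2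
      exact ⟨p.map (Subring.inclusion hBV), hp.map _, by rw [Polynomial.eval₂_map]; exact hpb⟩
    obtain ⟨v, hv⟩ := IsIntegrallyClosed.isIntegral_iff.1 hb
    exact hv ▸ v.2
  let ι : B' →+* V := (B'.val.toRingHom).codRestrict V hB'V
  let P : Ideal B' := (IsLocalRing.maximalIdeal V).comap ι
  have hmem : ∀ b : B', b ∈ P ↔ (b : K) ∈ V.nonunits := fun b =>
    (V.coe_mem_nonunits_iff (a := ι b)).symm
  have hprime : P.IsPrime := Ideal.IsPrime.comap ι
  have hP : P ≠ ⊥ := by
    intro h
    refine hV (eq_top_iff.2 fun z _ => ?_)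
    obtain ⟨b, c, hc, rfl⟩ := IsFractionRing.div_surjective B' z
    have hcu : IsUnit (ι c) := by
      by_contra hu
      exact nonZeroDivisors.ne_zero hc ((Submodule.mem_bot _).1 (h.le ((IsLocalRing.mem_maximalIdeal _).2 hu : c ∈ P)))
    obtain ⟨u, hu⟩ := hcu.exists_right_inv
    have h1 : ((c : K))⁻¹ = u := inv_eq_of_mul_eq_one_right (congrArg Subtype.val hu)
    show (b : K) / (c : K) ∈ V
    rw [div_eq_mul_inv, h1]
    exact V.mul_mem _ _ (hB'V b) u.2
  have hmax : P.IsMaximal := hprime.isMaximal hP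
  have hfwd : ∀ z : K, ∀ b s : B', s ∉ P → z * s = b → z ∈ V := by
    intro z b s hs e
    have hsu : IsUnit (ι s) := by
      by_contra hu
      exact hs ((IsLocalRing.mem_maximalIdeal _).2 hu)
    obtain ⟨u, hu⟩ := hsu.exists_right_inv
    have hu' : (s : K) * u = 1 := congrArg Subtype.val hu
    have : z = (b : K) * u := by rw [← e, mul_assoc, hu', mul_one]
    rw [this]; exact V.mul_mem _ _ (hB'V b) u.2
  refine ⟨⟨P, hmax⟩, hP, hmem, fun z => ⟨fun hz => ?_, fun ⟨b, s, hs, e⟩ => hfwd z b s hs e⟩⟩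
  obtain ⟨b, s, hs, e | e⟩ := exists_fraction B P hP z
  · exact ⟨b, s, hs, e⟩
  rcases eq_or_ne z 0 with rfl | hz0
  · exact ⟨0, s, hs, by simp⟩
  refine ⟨s, b, fun hbP => ?_, ?_⟩
  · -- `z⁻¹` would be a nonunit
    have h1 : (b : K) ∈ V.nonunits := (hmem b).1 hbP
    rw [ValuationSubring.mem_nonunits_iff, ← e, map_mul, map_inv₀] at h1
    have h2 : V.valuation (s : K) = 1 := by
      refine le_antisymm ((V.valuation_le_one_iff _).2 (hB'V s)) ?_
      by_contra h
      exact hs ((hmem s).2 ((V.mem_nonunits_iff).2 (not_le.1 h)))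
    rw [h2, mul_one] at h1
    have h3 := (V.valuation_le_one_iff z).2 hz
    exact absurd h1 (not_lt.2 ((one_le_inv₀ (zero_lt_iff.2 ((Valuation.ne_zero_iff _).2 hz0))).2 h3))
  · rw [← e, ← mul_assoc, mul_inv_cancel₀ hz0, one_mul]

theorem finite_valuationSubrings [Finite (MaximalSpectrum B)] :
    Finite {V : ValuationSubring K // B ≤ V.toSubring ∧ V ≠ ⊤} := by
  have := KrullAkizuki.finite_maximalSpectrum_integralClosure B K
  choose P hP0 hPn hPm using fun V : {V : ValuationSubring K // B ≤ V.toSubring ∧ V ≠ ⊤} =>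
    exists_centre B V.1 V.2.1 V.2.2
  refine Finite.of_injective P fun V W h => Subtype.ext (SetLike.ext fun z => ?_)
  rw [hPm V z, hPm W z, h]

omit [IsNoetherianRing B] [IsFractionRing B K] [Ring.KrullDimLE 1 B] in
/-- Elements avoiding every proper valuation overring lie in the integral closure. -/
theorem isIntegral_of_forall_mem {z : K}
    (h : ∀ V : ValuationSubring K, B ≤ V.toSubring → V ≠ ⊤ → z ∈ V) : IsIntegral B z := by
  by_contra hz
  let R : Subring K := (integralClosure B K).toSubring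
  have hR : IsIntegrallyClosedIn R K :=
    inferInstanceAs (IsIntegrallyClosedIn (integralClosure B K) K)
  obtain ⟨V, hRV, hzV⟩ := R.exists_le_valuationSubring_of_isIntegrallyClosedIn (x := z) hz
  exact hzV (h V (fun b hb => hRV (show b ∈ integralClosure B K from isIntegral_algebraMap (x := (⟨b, hb⟩ : B))))
    fun htop => hzV (htop ▸ ValuationSubring.mem_top z))

end OneDim

end Groth.Agent.SemiLocalGlue
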