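import Mathlib
import Groth.Agent.SemiLocalGlue.Basic

/-!
# Gluing semilocal one-dimensional subrings of a field
-/

set_option autoImplicit false

universe u

open CategoryTheory CategoryTheory.Limits AlgebraicGeometry

namespace Groth.Agent.SemiLocalGlue

section Dvd

theorem exists_dvd_pow {C : Type u} [CommRing C] [IsDomain C]
    (hC : ∀ p : Ideal C, p.IsPrime → p ≠ ⊥ → p.IsMaximal) {x : C}
    (hx : x ∈ (⊥ : Ideal C).jacobson) {d : C} (hd : d ≠ 0) : ∃ n, d ∣ x ^ n := by
  have h : x ∈ (Ideal.span {d}).radical := by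
    rw [Ideal.radical_eq_sInf, Submodule.mem_sInf]
    rintro p ⟨hdp, hp⟩
    have hp0 : p ≠ ⊥ := fun h => hd ((Submodule.mem_bot _).1 (h.le (hdp (Ideal.mem_span_singleton_self d))))
    exact Ideal.mem_sInf.1 hx (I := p) ⟨bot_le, hC p hp hp0⟩
  obtain ⟨n, hn⟩ := h
  exact ⟨n, Ideal.mem_span_singleton.1 hn⟩

/-- Powers of an element of the Jacobson radical of the integral closure absorb its elements into `B`. -/
theorem exists_pow_mul_mem (B : Type u) [CommRing B] [IsDomain B] [Ring.KrullDimLE 1 B]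
    (K : Type u) [Field K] [Algebra B K] [IsFractionRing B K] (x y : integralClosure B K)
    (hx : x ∈ (⊥ : Ideal (integralClosure B K)).jacobson) :
    ∃ n : ℕ, ((x : K) ^ n * (y : K)) ∈ (algebraMap B K).range := by
  classical
  let B' := integralClosure B K
  let D : Subalgebra B K := Algebra.adjoin B {(x : K), (y : K)}
  have hDB' : D ≤ B' := Algebra.adjoin_le (by
    intro z hz; rcases hz with rfl | rfl <;> exact Subtype.prop _)
  have hDint : Algebra.IsIntegral B D := ⟨fun z =>
    (isIntegral_algHom_iff D.val Subtype.val_injective).1 (hDB' z.2)⟩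
  -- a common denominator
  have hfg : (Subalgebra.toSubmodule D).FG :=
    fg_adjoin_of_finite (Set.toFinite _) (by
      intro z hz; rcases hz with rfl | rfl <;> exact Subtype.prop _)
  obtain ⟨s, hs⟩ := hfg
  obtain ⟨d, hd⟩ := IsLocalization.exist_integer_multiples_of_finset (nonZeroDivisors B) s
  have hdD : ∀ z ∈ D, ∃ b : B, algebraMap B K b = algebraMap B K d * z := by
    intro z hz
    have hz' : z ∈ Submodule.span B (s : Set K) := by rw [hs]; exact hz
    refine Submodule.span_induction (fun a ha => ?_) ⟨0, by simp⟩ ?_ ?_ hz'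
    · obtain ⟨b, hb⟩ := hd a ha
      exact ⟨b, by rw [hb, Algebra.smul_def]⟩
    · rintro a a' - - ⟨b, hb⟩ ⟨b', hb'⟩
      exact ⟨b + b', by rw [map_add, hb, hb', mul_add]⟩
    · rintro c a - ⟨b, hb⟩
      exact ⟨c * b, by rw [map_mul, hb, Algebra.smul_def, mul_left_comm]⟩
  -- `D` has dimension one
  have hDdim : ∀ p : Ideal D, p.IsPrime → p ≠ ⊥ → p.IsMaximal := by
    intro p hp hp0
    have h1 : p.comap (algebraMap B D) ≠ ⊥ := fun h => hp0 (Ideal.eq_bot_of_comap_eq_bot h)
    exact Ideal.isMaximal_of_isIntegral_of_isMaximal_comap p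
      (isMaximal_of_ne_bot (Ideal.IsPrime.comap _) h1)
  -- `x` is in its Jacobson radical
  let xD : D := ⟨x, Algebra.subset_adjoin (Set.mem_insert _ _)⟩
  let yD : D := ⟨y, Algebra.subset_adjoin (Set.mem_insert_of_mem _ rfl)⟩
  have hxD : xD ∈ (⊥ : Ideal D).jacobson := by
    rw [Ideal.jacobson, Ideal.mem_sInf]
    rintro m ⟨-, hm⟩
    let _ : Algebra D B' := (Subalgebra.inclusion hDB').toRingHom.toAlgebra
    have : IsScalarTower B D B' := IsScalarTower.of_algebraMap_eq fun b => rfl
    have : Algebra.IsIntegral B B' := ⟨fun z =>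
      (isIntegral_algHom_iff B'.val Subtype.val_injective).1 z.2⟩
    have : Algebra.IsIntegral D B' := Algebra.IsIntegral.tower_top B
    obtain ⟨M, hM, hMm⟩ := Ideal.exists_ideal_over_maximal_of_isIntegral (S := B') m (by
      have hinj : Function.Injective (algebraMap D B') := Subalgebra.inclusion_injective hDB'
      rw [(RingHom.injective_iff_ker_eq_bot _).1 hinj]
      exact bot_le)
    rw [← hMm]
    exact Ideal.mem_sInf.1 hx (I := M) ⟨bot_le, hM⟩
  have hd0 : algebraMap B D d ≠ 0 := fun h =>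
    IsFractionRing.to_map_ne_zero_of_mem_nonZeroDivisors d.2 (congrArg Subtype.val h)
  obtain ⟨n, c, hc⟩ := exists_dvd_pow hDdim hxD hd0
  obtain ⟨b, hb⟩ := hdD _ (D.mul_mem c.2 yD.2)
  refine ⟨n, b, ?_⟩
  have h2 : (x : K) ^ n = algebraMap B K d * (c : K) := congrArg Subtype.val hc
  rw [hb, h2, mul_assoc]

end Dvd

variable {K : Type u} [Field K]

theorem eventually_pow_mul_mem (C : Subring K) [IsFractionRing C K] [Ring.KrullDimLE 1 C]
    {x : C} (hx : x ∈ (⊥ : Ideal C).jacobson) (z : K) :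
    ∃ N : ℕ, ∀ n ≥ N, ∃ h : (x : K) ^ n * z ∈ C, (⟨_, h⟩ : C) ∈ (⊥ : Ideal C).jacobson := by
  obtain ⟨b, d, hd, rfl⟩ := IsFractionRing.div_surjective C z
  obtain ⟨N, c, hc⟩ := exists_dvd_pow (fun p => isMaximal_of_ne_bot) hx (nonZeroDivisors.ne_zero hd)
  refine ⟨N + 1, fun n hn => ?_⟩
  show ∃ h : (x : K) ^ n * ((b : K) / (d : K)) ∈ C, _
  obtain ⟨k, rfl⟩ := Nat.exists_eq_add_of_le hn
  have hdne : (d : K) ≠ 0 := fun h => nonZeroDivisors.ne_zero hd (Subtype.ext h)
  have hc' : (x : K) ^ N = (d : K) * (c : K) := congrArg Subtype.val hc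
  have key : (x : K) ^ (N + 1 + k) * ((b : K) / (d : K)) = ((x * (x ^ k * c * b) : C) : K) := by
    push_cast
    rw [pow_add, pow_add, pow_one, hc']
    field_simp
  refine ⟨key ▸ Subtype.prop _, ?_⟩
  have : (⟨_, key ▸ Subtype.prop _⟩ : C) = x * (x ^ k * c * b) := Subtype.ext key
  exact Eq.mpr (congrArg (· ∈ (⊥ : Ideal C).jacobson) this) (Ideal.mul_mem_right _ _ hx)

theorem eq_top_of_le {A C : Subring K} [IsFractionRing A K] (hAC : A ≤ C) (hC : IsField C) :
    C = ⊤ := by
  refine eq_top_iff.2 fun z _ => ?_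
  obtain ⟨a, c, hc, rfl⟩ := IsFractionRing.div_surjective A z
  have hc0 : (⟨c, hAC c.2⟩ : C) ≠ 0 := fun h =>
    nonZeroDivisors.ne_zero hc (Subtype.ext (congrArg (Subtype.val) h :))
  obtain ⟨c', hc'⟩ := hC.mul_inv_cancel hc0
  have h1 : (c : K)⁻¹ = c' := inv_eq_of_mul_eq_one_right (congrArg Subtype.val hc')
  show (a : K) / (c : K) ∈ C
  rw [div_eq_mul_inv, h1]
  exact C.mul_mem (hAC a.2) c'.2

theorem exists_forall_notMem (A : Subring K) {σ : Type*} (s : Finset σ)
    (V : σ → ValuationSubring K) (h : ∀ i ∈ s, ∃ a ∈ A, a ∉ V i) :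
    ∃ x ∈ A, x ≠ 0 ∧ ∀ i ∈ s, x ∉ V i := by
  classical
  induction s using Finset.induction with
  | empty => exact ⟨1, A.one_mem, one_ne_zero, by simp⟩
  | @insert i s his ih =>
    obtain ⟨x, hxA, hx0, hx⟩ := ih fun j hj => h j (Finset.mem_insert_of_mem hj)
    rcases em (x ∈ V i) with hxi | hxi
    swap
    · exact ⟨x, hxA, hx0, Finset.forall_mem_insert _ _ _ |>.2 ⟨hxi, hx⟩⟩
    obtain ⟨a, haA, hai⟩ := h i (Finset.mem_insert_self _ _)
    have hgt : ∀ j (y : K), y ∉ V j → 1 < (V j).valuation y := fun j y hy =>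
      not_le.1 fun h => hy (((V j).valuation_le_one_iff y).1 h)
    have hfin : (⋃ j ∈ (s : Set σ),
        {N : ℕ | (V j).valuation (x ^ (N + 1)) = (V j).valuation a}).Finite := by
      refine Set.Finite.biUnion s.finite_toSet fun j hj => Set.Subsingleton.finite ?_
      intro N hN M hM
      have e : (V j).valuation x ^ (N + 1) = (V j).valuation x ^ (M + 1) := by
        rw [← map_pow, ← map_pow]; exact hN.trans hM.symm
      exact Nat.succ_injective ((pow_right_strictMono₀ (hgt j x (hx j hj))).injective e)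
    obtain ⟨N, hN⟩ := hfin.exists_notMem
    have hsum : ∀ j, 1 < (V j).valuation a ∨ 1 < (V j).valuation (x ^ (N + 1)) →
        (V j).valuation (x ^ (N + 1)) ≠ (V j).valuation a → x ^ (N + 1) + a ∉ V j := by
      intro j hj hne hmem
      have h1 := ((V j).valuation_le_one_iff _).2 hmem
      rw [Valuation.map_add_of_distinct_val _ hne, max_le_iff] at h1
      exact hj.elim (fun h' => not_le.2 h' h1.2) (fun h' => not_le.2 h' h1.1)
    have hall : ∀ j ∈ insert i s, x ^ (N + 1) + a ∉ V j := by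
      refine (Finset.forall_mem_insert _ _ _).2 ⟨?_, fun j hj => ?_⟩
      · refine hsum i (Or.inl (hgt i a hai)) fun e => ?_
        have := hgt i a hai
        rw [← e, map_pow] at this
        exact not_le.2 this (pow_le_one₀ zero_le (((V i).valuation_le_one_iff x).2 hxi))
      · refine hsum j (Or.inr ?_) fun e => hN ?_
        · rw [map_pow]; exact one_lt_pow₀ (hgt j x (hx j hj)) (Nat.succ_ne_zero _)
        · exact Set.mem_biUnion hj e
    exact ⟨_, A.add_mem (A.pow_mem hxA _) haA,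
      fun e => hall i (Finset.mem_insert_self _ _) (e ▸ (V i).zero_mem), hall⟩

section Family

variable {ι : Type*} [Finite ι] (A : Subring K) [IsFractionRing A K] (B : ι → Subring K)
  [∀ i, IsNoetherianRing (B i)] [∀ i, IsFractionRing (B i) K]

omit [IsFractionRing A K] in
/-- An element of `A` whose inverse is in the Jacobson radical of all the `B i`. -/
theorem exists_inverse (hdim : ∀ i, ringKrullDim (B i) = 1)
    (hsl : ∀ i, Finite (MaximalSpectrum (B i))) (hgen : ∀ i, A ⊔ B i = ⊤) :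
    ∃ x : K, x ∈ A ∧ x ≠ 0 ∧
      ∀ i, ∃ hx : x⁻¹ ∈ B i, (⟨x⁻¹, hx⟩ : B i) ∈ (⊥ : Ideal (B i)).jacobson := by
  classical
  have := Fintype.ofFinite ι
  have hd : ∀ i, Ring.KrullDimLE 1 (B i) := fun i => krullDimLE_one (hdim i)
  have hS : ∀ i, Finite {V : ValuationSubring K // B i ≤ V.toSubring ∧ V ≠ ⊤} := fun i =>
    finite_valuationSubrings (B i)
  have := Fintype.ofFinite (Σ i, {V : ValuationSubring K // B i ≤ V.toSubring ∧ V ≠ ⊤})
  obtain ⟨x, hxA, hx0, hx⟩ := exists_forall_notMem A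
    (Finset.univ : Finset (Σ i, {V : ValuationSubring K // B i ≤ V.toSubring ∧ V ≠ ⊤}))
    (fun p => p.2.1) (by
      rintro ⟨i, V, hBV, hV⟩ -
      by_contra hA
      simp only [not_exists, not_and, not_not] at hA
      refine hV (eq_top_iff.2 fun z _ => ?_)
      exact (sup_le (fun a ha => hA a ha) hBV : A ⊔ B i ≤ V.toSubring) (hgen i ▸ Subring.mem_top z))
  have hz : ∀ i (V : ValuationSubring K), B i ≤ V.toSubring → V ≠ ⊤ → x⁻¹ ∈ V.nonunits :=
    fun i V h1 h2 => inv_mem_nonunits_of_notMem V (hx ⟨i, V, h1, h2⟩ (Finset.mem_univ _))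
  have hint : ∀ i, IsIntegral (B i) x⁻¹ := fun i => isIntegral_of_forall_mem (B i) fun V h1 h2 =>
    V.nonunits_subset (hz i V h1 h2)
  have key : ∀ i, ∃ n : ℕ, ∀ k : ℕ, ∃ h : x⁻¹ ^ ((n + 1) * (k + 1)) ∈ B i,
      (⟨_, h⟩ : B i) ∈ (⊥ : Ideal (B i)).jacobson := by
    intro i
    let B' := integralClosure (B i) K
    have : IsFractionRing B' K := integralClosure.isFractionRing_of_finite_extension K K
    let z : B' := ⟨x⁻¹, hint i⟩
    have hzJ : z ∈ (⊥ : Ideal B').jacobson := by
      rw [Ideal.jacobson, Ideal.mem_sInf]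
      rintro P ⟨-, hP⟩
      by_contra hzP
      have hPne : P ≠ ⊥ := by
        intro h
        subst h
        have hB' : IsField B' := Ring.isField_iff_maximal_bot.2 hP
        have : Algebra.IsIntegral (B i) B' := ⟨fun w =>
          (isIntegral_algHom_iff B'.val Subtype.val_injective).1 w.2⟩
        exact not_isField_of_dim (hdim i) (isField_of_isIntegral_of_isField
          (R := B i) (S := B') (fun a b h => Subtype.ext (congrArg Subtype.val h :)) hB')
      obtain ⟨y, p, hp, e⟩ := hP.exists_inv hzP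
      obtain ⟨V, hV1, hV2, hV3⟩ := exists_valuationSubring B'.toSubring P hP.ne_top hPne
      have hBV : B i ≤ V.toSubring := fun b hb => hV1
        (show b ∈ B' from isIntegral_algebraMap (x := (⟨b, hb⟩ : B i)))
      have h1 : V.valuation ((y : K) * x⁻¹) < 1 := by
        rw [map_mul]
        exact lt_of_le_of_lt (mul_le_of_le_one_left' ((V.valuation_le_one_iff _).2 (hV1 y.2)))
          ((V.mem_nonunits_iff).1 (hz i V hBV hV2))
      have h2 : V.valuation (p : K) < 1 := (V.mem_nonunits_iff).1 (hV3 p hp)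
      have h3 := V.valuation.map_add_lt h1 h2
      have e' : (y : K) * x⁻¹ + (p : K) = 1 := congrArg Subtype.val e
      rw [e', map_one] at h3
      exact lt_irrefl _ h3
    obtain ⟨n, b, hb⟩ := exists_pow_mul_mem (B i) K z z hzJ
    refine ⟨n, fun k => ?_⟩
    have hb' : (b : K) = x⁻¹ ^ (n + 1) := by rw [pow_succ]; exact hb
    have hmem : x⁻¹ ^ ((n + 1) * (k + 1)) ∈ B i := by
      rw [pow_mul, ← hb']; exact (B i).pow_mem b.2 _
    refine ⟨hmem, ?_⟩
    rw [Ideal.jacobson, Ideal.mem_sInf]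
    rintro m ⟨-, hm⟩
    have : Algebra.IsIntegral (B i) B' := ⟨fun w =>
      (isIntegral_algHom_iff B'.val Subtype.val_injective).1 w.2⟩
    obtain ⟨M, hM, hMm⟩ := Ideal.exists_ideal_over_maximal_of_isIntegral (S := B') m (by
      have hinj : Function.Injective (algebraMap (B i) B') := fun a b h =>
        Subtype.ext (congrArg Subtype.val h :)
      rw [(RingHom.injective_iff_ker_eq_bot _).1 hinj]
      exact bot_le)
    rw [← hMm, Ideal.mem_comap]
    have : algebraMap (B i) B' ⟨_, hmem⟩ = z ^ ((n + 1) * (k + 1)) := Subtype.ext rfl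
    rw [this]
    exact Ideal.pow_mem_of_mem _ (Ideal.mem_sInf.1 hzJ (I := M) ⟨bot_le, hM⟩) _
      (by positivity)
  choose n hn using key
  refine ⟨x ^ (∏ i, (n i + 1)), A.pow_mem hxA _, pow_ne_zero _ hx0, fun i => ?_⟩
  obtain ⟨k, hk⟩ : ∃ k, ∏ j, (n j + 1) = (n i + 1) * (k + 1) := by
    refine ⟨(∏ j ∈ Finset.univ.erase i, (n j + 1)) - 1, ?_⟩
    rw [Nat.sub_add_cancel (Finset.one_le_prod' fun j _ => Nat.le_add_left 1 _),
      Finset.mul_prod_erase _ (fun j => n j + 1) (Finset.mem_univ i)]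
  obtain ⟨h, hJ⟩ := hn i k
  have e : (x ^ (∏ j, (n j + 1)))⁻¹ = x⁻¹ ^ ((n i + 1) * (k + 1)) := by rw [hk, inv_pow]
  refine ⟨e ▸ h, ?_⟩
  convert hJ using 2

/-- A unit of the semilocal `A` in the Jacobson radical of all the `B i`. -/
theorem exists_unit [Finite (MaximalSpectrum A)] (hdim : ∀ i, ringKrullDim (B i) = 1)
    (hsl : ∀ i, Finite (MaximalSpectrum (B i))) (hgen : ∀ i, A ⊔ B i = ⊤) :
    ∃ f : K, f ≠ 0 ∧ f ∈ A ∧ f⁻¹ ∈ A ∧
      ∀ i, ∃ h : f ∈ B i, (⟨f, h⟩ : B i) ∈ (⊥ : Ideal (B i)).jacobson := by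
  classical
  have := Fintype.ofFinite ι
  have hd : ∀ i, Ring.KrullDimLE 1 (B i) := fun i => krullDimLE_one (hdim i)
  obtain ⟨x, hxA, hx0, hx⟩ := exists_inverse A B hdim hsl hgen
  obtain ⟨a, ha⟩ := Ideal.exists_forall_sub_mem_ideal
    (I := fun m : MaximalSpectrum A => m.asIdeal)
    (fun m m' h => Ideal.isCoprime_iff_sup_eq.2
      (Ideal.IsMaximal.coprime_of_ne m.isMaximal m'.isMaximal fun e => h (MaximalSpectrum.ext e)))
    (fun m => if (⟨x, hxA⟩ : A) ∈ m.asIdeal then 1 else 0)
  choose hxB hxJ using hx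
  choose N hN using fun i =>
    @eventually_pow_mul_mem K _ (B i) _ (hd i) ⟨_, hxB i⟩ (hxJ i) (a : K)
  let n : ℕ := ∑ i, N i + 1
  let w : A := ⟨x, hxA⟩ ^ n + a
  have hw : IsUnit w := by
    by_contra h
    obtain ⟨m, hm, hwm⟩ := exists_max_ideal_of_mem_nonunits h
    have hm' := ha ⟨m, hm⟩
    simp only at hm'
    by_cases hxm : (⟨x, hxA⟩ : A) ∈ m
    · rw [if_pos hxm] at hm'
      refine hm.ne_top ((Ideal.eq_top_iff_one m).2 ?_)
      have h1 : (1 : A) = w - (⟨x, hxA⟩ ^ n) - (a - 1) := by simp only [w]; ring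
      rw [h1]
      exact m.sub_mem (m.sub_mem hwm (m.pow_mem_of_mem hxm _ (Nat.succ_pos _))) hm'
    · rw [if_neg hxm, sub_zero] at hm'
      refine hxm (hm.isPrime.mem_of_pow_mem n ?_)
      have h1 : (⟨x, hxA⟩ : A) ^ n = w - a := by simp only [w]; ring
      rw [h1]; exact m.sub_mem hwm hm'
  obtain ⟨v, hv⟩ := hw.exists_right_inv
  have hv' : (x ^ n + (a : K)) * (v : K) = 1 := congrArg Subtype.val hv
  have hwinv : (v : K)⁻¹ = x ^ n + a := inv_eq_of_mul_eq_one_left hv'
  refine ⟨v, fun h => by simp [h] at hv', v.2, by rw [hwinv]; exact w.2, fun i => ?_⟩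
  obtain ⟨hi, hiJ⟩ := hN i n (le_trans
    (Finset.single_le_sum (fun j _ => Nat.zero_le (N j)) (Finset.mem_univ i)) (Nat.le_succ _))
  have hu : IsUnit ((⟨_, hi⟩ : B i) + 1) := by
    have := Ideal.mem_jacobson_bot.1 hiJ 1
    simpa using this
  obtain ⟨t, ht⟩ := hu.exists_right_inv
  have ht' : (x⁻¹ ^ n * (a : K) + 1) * (t : K) = 1 := congrArg Subtype.val ht
  have hve : (v : K) = x⁻¹ ^ n * t := by
    refine (eq_inv_of_mul_eq_one_right hv').trans (inv_eq_of_mul_eq_one_right ?_)
    have hxn : x ^ n * x⁻¹ ^ n = 1 := by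
      rw [← mul_pow, mul_inv_cancel₀ hx0, one_pow]
    calc (x ^ n + a) * (x⁻¹ ^ n * t) = ((x ^ n * x⁻¹ ^ n) + x⁻¹ ^ n * a) * t := by ring
      _ = 1 := by rw [hxn, add_comm]; exact ht'
  have hmem : (v : K) ∈ B i := by rw [hve]; exact (B i).mul_mem ((B i).pow_mem (hxB i) _) t.2
  refine ⟨hmem, ?_⟩
  have : (⟨_, hmem⟩ : B i) = (⟨_, hxB i⟩ : B i) ^ n * t := Subtype.ext hve
  rw [this]
  exact Ideal.mul_mem_right _ _ (Ideal.pow_mem_of_mem _ (hxJ i) _ (Nat.succ_pos _))

end Family

section Glue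

variable {ι : Type*} [Finite ι] (A : ι → Subring K) [∀ i, IsNoetherianRing (A i)]
  [∀ i, IsFractionRing (A i) K] (hdim : ∀ i, ringKrullDim (A i) = 1)
  (hsl : ∀ i, Finite (MaximalSpectrum (A i))) (hgen : ∀ i j, i ≠ j → A i ⊔ A j = ⊤)
  (C : Subring K) (hle : ∀ i, C ≤ A i) (hmem : ∀ z, (∀ i, z ∈ A i) → z ∈ C)

include hdim hsl hgen hle hmem in
theorem exists_separator (i : ι) : ∃ f : C, IsUnit (Subring.inclusion (hle i) f) ∧
    ∀ j, j ≠ i → Subring.inclusion (hle j) f ∈ (⊥ : Ideal (A j)).jacobson := by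
  have := hsl i
  obtain ⟨f, hf0, hfA, hfA', hf⟩ := exists_unit (A i) (fun j : {j // j ≠ i} => A j.1)
    (fun j => hdim j.1) (fun j => hsl j.1) (fun j => hgen i j.1 j.2.symm)
  have hfC : f ∈ C := hmem f fun j => by
    rcases eq_or_ne j i with rfl | hj
    · exact hfA
    · exact (hf ⟨j, hj⟩).1
  exact ⟨⟨f, hfC⟩, IsUnit.of_mul_eq_one ⟨f⁻¹, hfA'⟩ (Subtype.ext (mul_inv_cancel₀ hf0)),
    fun j hj => (hf ⟨j, hj⟩).2⟩

omit [∀ i, IsNoetherianRing (A i)] in
include hdim hmem in
theorem isLocalization_away (i : ι) (f : C) (hu : IsUnit (Subring.inclusion (hle i) f))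
    (hJ : ∀ j, j ≠ i → Subring.inclusion (hle j) f ∈ (⊥ : Ideal (A j)).jacobson) :
    @IsLocalization.Away C _ f (A i) _ (Subring.inclusion (hle i)).toAlgebra := by
  classical
  have := Fintype.ofFinite ι
  let _ := (Subring.inclusion (hle i)).toAlgebra
  refine IsLocalization.Away.mk f hu (fun z => ?_) (fun a b h => ⟨0, by
    rw [show a = b from Subtype.ext (congrArg Subtype.val h :)]⟩)
  have hN : ∀ j, ∃ N : ℕ, ∀ n ≥ N, (f : K) ^ n * (z : K) ∈ A j := by
    intro j
    rcases eq_or_ne j i with rfl | hj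
    · exact ⟨0, fun n _ => (A j).mul_mem ((A j).pow_mem (hle j f.2) _) z.2⟩
    · have := krullDimLE_one (hdim j)
      obtain ⟨N, hN⟩ := eventually_pow_mul_mem (A j) (hJ j hj) (z : K)
      exact ⟨N, fun n hn => (hN n hn).1⟩
  choose N hN using hN
  refine ⟨∑ j, N j, ⟨(f : K) ^ (∑ j, N j) * z, hmem _ fun j =>
    hN j _ (Finset.single_le_sum (fun j _ => Nat.zero_le (N j)) (Finset.mem_univ j))⟩,
    Subtype.ext ?_⟩
  simp [RingHom.algebraMap_toAlgebra, mul_comm]

include hdim hsl hgen hle hmem in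
theorem isOpenImmersion_and_cover [Nonempty ι] :
    IsNoetherianRing C ∧ ringKrullDim C = 1 ∧ Finite (MaximalSpectrum C) ∧ IsFractionRing C K ∧
      (∀ i, IsOpenImmersion (Spec.map (CommRingCat.ofHom (Subring.inclusion (hle i))))) ∧
      (⋃ i, Set.range (Spec.map (CommRingCat.ofHom (Subring.inclusion (hle i)))).base) = Set.univ ∧
      (∀ m : PrimeSpectrum C, m.asIdeal.IsMaximal →
        ∃! i, m ∈ Set.range (Spec.map (CommRingCat.ofHom (Subring.inclusion (hle i)))).base) := by
  classical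
  have := Fintype.ofFinite ι
  have hd : ∀ i, Ring.KrullDimLE 1 (A i) := fun i => krullDimLE_one (hdim i)
  choose f hu hJ using exists_separator A hdim hsl hgen C hle hmem
  let alg : ∀ i, Algebra C (A i) := fun i => (Subring.inclusion (hle i)).toAlgebra
  have hloc : ∀ i, IsLocalization.Away (f i) (A i) := fun i =>
    isLocalization_away A hdim C hle hmem i (f i) (hu i) (hJ i)
  have hoi : ∀ i, IsOpenImmersion (Spec.map (CommRingCat.ofHom (Subring.inclusion (hle i)))) :=
    fun i => IsOpenImmersion.of_isLocalization (S := A i) (f i)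
  have hrange : ∀ i, Set.range (Spec.map (CommRingCat.ofHom (Subring.inclusion (hle i)))).base
      = (PrimeSpectrum.basicOpen (f i) : Set (PrimeSpectrum C)) :=
    fun i => PrimeSpectrum.localization_away_comap_range (A i) (f i)
  -- the separators generate the unit ideal
  have hsum : IsUnit (∑ i, f i) := by
    have hi : ∀ i, IsUnit (Subring.inclusion (hle i) (∑ j, f j)) := fun i => by
      rw [map_sum, ← Finset.add_sum_erase _ _ (Finset.mem_univ i)]
      obtain ⟨e, he⟩ := (hu i).exists_right_inv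
      have hmemJ : (∑ j ∈ Finset.univ.erase i, Subring.inclusion (hle i) (f j)) ∈
          (⊥ : Ideal (A i)).jacobson :=
        Ideal.sum_mem _ fun j hj => hJ j i (Finset.ne_of_mem_erase hj).symm
      have h1 := Ideal.mem_jacobson_bot.1 hmemJ e
      have h2 : Subring.inclusion (hle i) (f i) + (∑ j ∈ Finset.univ.erase i, Subring.inclusion (hle i) (f j))
          = Subring.inclusion (hle i) (f i) *
            ((∑ j ∈ Finset.univ.erase i, Subring.inclusion (hle i) (f j)) * e + 1) := by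
        linear_combination (-(∑ j ∈ Finset.univ.erase i, Subring.inclusion (hle i) (f j))) * he
      rw [h2]
      exact (hu i).mul h1
    choose e he using fun i => (hi i).exists_right_inv
    let i₀ := Classical.arbitrary ι
    have hinv : ∀ i, (e i : K) = ((∑ j, f j : C) : K)⁻¹ := fun i =>
      eq_inv_of_mul_eq_one_right (congrArg Subtype.val (he i))
    have hC : (e i₀ : K) ∈ C := hmem _ fun i => by rw [hinv i₀, ← hinv i]; exact (e i).2
    exact IsUnit.of_mul_eq_one ⟨_, hC⟩ (Subtype.ext (congrArg Subtype.val (he i₀) :))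
  have hspan : Ideal.span (Set.range f) = ⊤ :=
    Ideal.eq_top_of_isUnit_mem _ (Ideal.sum_mem _ fun i _ => Ideal.subset_span ⟨i, rfl⟩) hsum
  have hcov : (⋃ i, Set.range (Spec.map (CommRingCat.ofHom (Subring.inclusion (hle i)))).base)
      = Set.univ := by
    simp only [hrange]
    refine Set.eq_univ_of_forall fun p => ?_
    by_contra hp
    refine p.isPrime.ne_top (top_le_iff.1 (hspan ▸ Ideal.span_le.2 ?_))
    rintro _ ⟨i, rfl⟩
    by_contra h
    exact hp (Set.mem_iUnion.2 ⟨i, h⟩)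
  have hnoeth : IsNoetherianRing C := by
    refine isNoetherianRing_of_away (Finset.univ.image f)
      (by rw [Finset.coe_image, Finset.coe_univ, Set.image_univ]; exact hspan) fun s => ?_
    obtain ⟨i, -, hi⟩ := Finset.mem_image.1 s.2
    have : IsLocalization.Away (s : C) (A i) := hi ▸ hloc i
    exact isNoetherianRing_of_ringEquiv (A i)
      (IsLocalization.algEquiv (Submonoid.powers (s : C)) (A i) (Localization.Away (s : C))).toRingEquiv
  have hfrac : IsFractionRing C K := by
    refine IsFractionRing.of_field C K fun z => ?_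
    let i := Classical.arbitrary ι
    obtain ⟨a, b, hb, rfl⟩ := IsFractionRing.div_surjective (A i) z
    obtain ⟨n, c, hc⟩ := IsLocalization.Away.surj (f i) a
    obtain ⟨m, d, hd'⟩ := IsLocalization.Away.surj (f i) b
    refine ⟨c * f i ^ m, d * f i ^ n, ?_⟩
    have hc' : (a : K) * (f i : K) ^ n = c := congrArg Subtype.val hc
    have hd'' : (b : K) * (f i : K) ^ m = d := congrArg Subtype.val hd'
    have hf : (f i : K) ≠ 0 := fun h => by
      obtain ⟨e, he⟩ := (hu i).exists_right_inv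
      have he' : (f i : K) * (e : K) = 1 := congrArg Subtype.val he
      simp [h] at he'
    show (a : K) / (b : K) = ((c * f i ^ m : C) : K) / ((d * f i ^ n : C) : K)
    push_cast
    rw [← hc', ← hd'']
    field_simp
  have hnf : ¬ IsField C := fun h => by
    have i := Classical.arbitrary ι
    have htop := eq_top_of_isField C h
    have : A i = ⊤ := top_le_iff.1 (htop ▸ hle i)
    refine not_isField_of_dim (hdim i) ?_
    exact ((RingEquiv.subringCongr this).trans Subring.topEquiv).toMulEquiv.isField (Field.toIsField K)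
  have hne : ∀ i (q : PrimeSpectrum (A i)), PrimeSpectrum.comap (algebraMap C (A i)) q ≠ ⊥ →
      q.asIdeal.IsMaximal := by
    intro i q hq
    have hne0 : q.asIdeal ≠ ⊥ := fun h => hq (PrimeSpectrum.ext (by
      rw [PrimeSpectrum.comap_asIdeal, h]
      exact Ideal.comap_bot_of_injective _ (fun a b e => Subtype.ext (congrArg Subtype.val e :))))
    exact isMaximal_of_ne_bot q.isPrime hne0
  have hdim1 : Ring.KrullDimLE 1 C := by
    rw [Ring.krullDimLE_one_iff_of_isPrime_bot]
    intro p hp0 hp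
    obtain ⟨p', hp', hpp'⟩ := Ideal.exists_le_maximal p hp.ne_top
    obtain ⟨i, hi⟩ := Set.mem_iUnion.1 (hcov.ge (Set.mem_univ (⟨p', hp'.isPrime⟩ : PrimeSpectrum C)))
    rw [hrange] at hi
    have hfp : f i ∉ p := fun h => hi (hpp' h)
    obtain ⟨q, hq⟩ : (⟨p, hp⟩ : PrimeSpectrum C) ∈ Set.range (PrimeSpectrum.comap (algebraMap C (A i))) := by
      rw [PrimeSpectrum.localization_away_comap_range (A i) (f i)]; exact hfp
    obtain ⟨q', hq'⟩ : (⟨p', hp'.isPrime⟩ : PrimeSpectrum C) ∈
        Set.range (PrimeSpectrum.comap (algebraMap C (A i))) := by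
      rw [PrimeSpectrum.localization_away_comap_range (A i) (f i)]; exact hi
    have hqm := hne i q (by rw [hq]; exact fun h => hp0 (congrArg PrimeSpectrum.asIdeal h :))
    have hle' : q ≤ q' := (IsLocalization.orderEmbedding (Submonoid.powers (f i)) (A i)).le_iff_le.1
      (show q.asIdeal.comap _ ≤ q'.asIdeal.comap _ by
        rw [← PrimeSpectrum.comap_asIdeal, ← PrimeSpectrum.comap_asIdeal, hq, hq']; exact hpp')
    have : q = q' := PrimeSpectrum.ext (hqm.eq_of_le q'.isPrime.ne_top hle')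
    rw [this, hq'] at hq
    exact (show p' = p from congrArg PrimeSpectrum.asIdeal hq) ▸ hp'
  have hmax : ∀ m : PrimeSpectrum C, m.asIdeal.IsMaximal → m ≠ ⊥ := fun m hm h =>
    hnf (Ring.isField_iff_maximal_bot.2 (by rw [h] at hm; exact hm))
  refine ⟨hnoeth, ?_, ?_, hfrac, hoi, hcov, fun m hm => ?_⟩
  · refine le_antisymm ((Ring.krullDimLE_iff).1 hdim1) ?_
    by_contra h
    have h'' : ringKrullDim C ≤ 0 := Order.le_of_lt_succ (not_le.1 h)
    rw [← Nat.cast_zero, ← Ring.krullDimLE_iff] at h''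
    exact hnf Ring.KrullDimLE.isField_of_isDomain
  · let S : Set (PrimeSpectrum C) := ⋃ i, Set.range (fun q : MaximalSpectrum (A i) =>
      PrimeSpectrum.comap (algebraMap C (A i)) q.toPrimeSpectrum)
    have hS : S.Finite := Set.finite_iUnion fun i => by have := hsl i; exact Set.finite_range _
    have hsub : ∀ m : MaximalSpectrum C, m.toPrimeSpectrum ∈ S := fun m => by
      obtain ⟨i, q, hq⟩ := Set.mem_iUnion.1 (hcov.ge (Set.mem_univ m.toPrimeSpectrum))
      have hq' : PrimeSpectrum.comap (algebraMap C (A i)) q = m.toPrimeSpectrum := hq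
      exact Set.mem_iUnion.2 ⟨i, ⟨q.asIdeal, hne i q (hq' ▸ hmax _ m.isMaximal)⟩, hq'⟩
    have := hS.to_subtype
    exact Finite.of_injective (fun m => (⟨_, hsub m⟩ : S)) fun a b h =>
      MaximalSpectrum.toPrimeSpectrum_injective (congrArg Subtype.val h :)
  · obtain ⟨i, hi⟩ := Set.mem_iUnion.1 (hcov.ge (Set.mem_univ m))
    refine ⟨i, hi, fun j hj => ?_⟩
    by_contra hji
    rw [hrange] at hi
    obtain ⟨q, hq⟩ := hj
    have hq' : PrimeSpectrum.comap (algebraMap C (A j)) q = m := hq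
    have hqm := hne j q (hq' ▸ hmax m hm)
    refine hi ?_
    rw [← hq']
    exact Ideal.mem_sInf.1 (hJ i j hji) (I := q.asIdeal) ⟨bot_le, hqm⟩

end Glue

/-- Two subrings: the pushout square. -/
theorem isPushout_two (A B C : Subring K) [IsNoetherianRing A] [IsNoetherianRing B]
    [IsFractionRing A K] [IsFractionRing B K] (hdimA : ringKrullDim A = 1)
    (hdimB : ringKrullDim B = 1) (hslA : Finite (MaximalSpectrum A))
    (hslB : Finite (MaximalSpectrum B)) (hgen : A ⊔ B = ⊤)
    (hA : C ≤ A) (hB : C ≤ B) (hmem : ∀ z, z ∈ A → z ∈ B → z ∈ C) :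
    IsOpenImmersion (Spec.map (CommRingCat.ofHom (Subring.inclusion hA))) ∧
      IsOpenImmersion (Spec.map (CommRingCat.ofHom (Subring.inclusion hB))) ∧
      Set.range (Spec.map (CommRingCat.ofHom (Subring.inclusion hA))).base ∪
        Set.range (Spec.map (CommRingCat.ofHom (Subring.inclusion hB))).base = Set.univ ∧
      IsPushout (CommRingCat.ofHom (Subring.inclusion hA)) (CommRingCat.ofHom (Subring.inclusion hB))
        (CommRingCat.ofHom A.subtype) (CommRingCat.ofHom B.subtype) := by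
  let F : Bool → Subring K := fun b => if b then A else B
  have : ∀ b, IsNoetherianRing (F b) := fun b => by cases b <;> assumption
  have : ∀ b, IsFractionRing (F b) K := fun b => by cases b <;> assumption
  have hd : ∀ b, ringKrullDim (F b) = 1 := fun b => by cases b <;> assumption
  have hs : ∀ b, Finite (MaximalSpectrum (F b)) := fun b => by cases b <;> assumption
  have hg : ∀ i j, i ≠ j → F i ⊔ F j = ⊤ := by
    intro i j h; cases i <;> cases j <;> simp_all [F, sup_comm]
  have hle : ∀ b, C ≤ F b := fun b => by cases b <;> assumption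
  have hm : ∀ z, (∀ b, z ∈ F b) → z ∈ C := fun z h => hmem z (h true) (h false)
  obtain ⟨-, -, -, -, hoi, hcov, -⟩ := isOpenImmersion_and_cover F hd hs hg C hle hm
  refine ⟨hoi true, hoi false, ?_, ?_⟩
  · refine Eq.trans ?_ hcov
    rw [Set.union_eq_iUnion]
    congr 1; ext b; cases b <;> rfl
  · obtain ⟨g, hu, hJ⟩ := exists_separator F hd hs hg C hle hm false
    have := krullDimLE_one hdimA
    let _ : Algebra C B := (Subring.inclusion hB).toAlgebra
    have : IsLocalization.Away g B := isLocalization_away F hd C hle hm false g hu hJ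
    let gA : A := Subring.inclusion hA g
    have hgJ : gA ∈ (⊥ : Ideal A).jacobson := hJ true (by decide)
    have hg0 : (gA : K) ≠ 0 := fun h => by
      obtain ⟨e, he⟩ := hu.exists_right_inv
      have he' : (g : K) * (e : K) = 1 := congrArg Subtype.val he
      rw [show (g : K) = 0 from h, zero_mul] at he'
      exact zero_ne_one he'
    have : IsLocalization ((Submonoid.powers g).map (Subring.inclusion hA)) K := by
      rw [Submonoid.map_powers]
      refine IsLocalization.Away.mk gA (isUnit_iff_ne_zero.2 hg0) (fun z => ?_)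
        (fun a b h => ⟨0, by rw [show a = b from Subtype.ext h]⟩)
      obtain ⟨N, hN⟩ := eventually_pow_mul_mem A hgJ z
      exact ⟨N, ⟨_, (hN N le_rfl).1⟩, mul_comm _ _⟩
    exact CommRingCat.isPushout_of_isLocalization (Subring.inclusion hA) B.subtype
      (RingHom.ext fun _ => rfl) (Submonoid.powers g)

/-- An element outside a discrete valuation subring generates `K` over it. -/
theorem sup_eq_top_of_notMem (B : ValuationSubring K) [IsDiscreteValuationRing B] (A : Subring K)
    {u : K} (huA : u ∈ A) (huB : u ∉ B) : A ⊔ B.toSubring = ⊤ := by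
  have : IsFractionRing B.toSubring K := inferInstanceAs (IsFractionRing B K)
  have : Ring.KrullDimLE 1 B.toSubring :=
    krullDimLE_one (IsDiscreteValuationRing.ringKrullDim_eq_one B)
  have hui : u⁻¹ ∈ B := (B.mem_or_inv_mem u).resolve_left huB
  have hu0 : u ≠ 0 := fun h => huB (h ▸ B.zero_mem)
  have hJ : (⟨u⁻¹, hui⟩ : B.toSubring) ∈ (⊥ : Ideal B.toSubring).jacobson := by
    show (⟨u⁻¹, hui⟩ : B) ∈ (⊥ : Ideal B).jacobson
    rw [IsLocalRing.jacobson_eq_maximalIdeal ⊥ bot_ne_top]
    exact (B.coe_mem_nonunits_iff (a := ⟨u⁻¹, hui⟩)).1 (inv_mem_nonunits_of_notMem B huB)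
  refine eq_top_iff.2 fun z _ => ?_
  obtain ⟨N, hN⟩ := eventually_pow_mul_mem B.toSubring hJ z
  have e : z = u ^ N * (u⁻¹ ^ N * z) := by
    rw [← mul_assoc, ← mul_pow, mul_inv_cancel₀ hu0, one_pow, one_mul]
  rw [e]
  exact Subring.mul_mem _ ((le_sup_left : A ≤ A ⊔ B.toSubring) (A.pow_mem huA _))
    ((le_sup_right : B.toSubring ≤ A ⊔ B.toSubring) (hN N le_rfl).1)

end Groth.Agent.SemiLocalGlue
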